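import Groth.Agent.SteinEtale21.Main
import Groth.Agent.S8190
import Groth.Agent.Lib.Stein.General
import Groth.Agent.Lib.FEt21.Basic
import Mathlib.AlgebraicGeometry.AlgClosed.Basic

/-!
# Covers with a section on a geometric fibre come from the base
-/

set_option autoImplicit false
set_option backward.isDefEq.respectTransparency false

universe u

open CategoryTheory CategoryTheory.Limits AlgebraicGeometry

namespace Groth.Agent.SectDescent21

variable {X S : Scheme.{u}} (f : X ⟶ S) [IsProper f] [Flat f] [LocallyOfFinitePresentation f]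

theorem geometricallyReduced_comp_etale [GeometricallyReduced f] {Y : Scheme.{u}} (b : Y ⟶ X) [Etale b] :
    GeometricallyReduced (b ≫ f) :=
  GeomFibre21.geometricallyReduced_of_algClosed _ fun K _ _ s => by
    let e : pullback (b ≫ f) s ⟶ pullback f s :=
      pullback.map _ s f s b (𝟙 _) (𝟙 _) (by simp) (by simp)
    haveI : Etale e := MorphismProperty.pullbackMap (P := @Etale)
      (f' := f) (g' := s) inferInstance inferInstance rfl (Category.id_comp s).symm
    haveI : IsReduced (pullback f s) :=
      GeometricallyReduced.geometrically_isReduced _ _ _ (IsPullback.of_hasPullback _ _)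
    exact GrothLib.Unibranch.isReduced_of_etale e

theorem connectedSpace_pullback_stein [GeometricallyReduced f]
    (hconn : ∀ (K : Type u) [Field K] [IsAlgClosed K] (s : Spec (CommRingCat.of K) ⟶ S), ConnectedSpace ↥(pullback f s))
    (Y : FEt.Cat X) [ConnectedSpace Y.left] {Z : Scheme.{u}} (p : Z ⟶ S) (q : Y.left ⟶ Z)
    (hq : q ≫ p = Y.hom ≫ f) [Surjective q] : ConnectedSpace ↥(pullback p f) := by
  let φ : Y.left ⟶ pullback p f := pullback.lift q Y.hom hq
  obtain ⟨y₀⟩ := (inferInstance : ConnectedSpace Y.left).toNonempty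
  haveI : PreconnectedSpace ↥(pullback p f) := by
    refine ⟨isPreconnected_of_forall (φ y₀) fun z _ => ?_⟩
    let τ := GrothLib.FEt21.geomPt Z (pullback.fst p f z)
    haveI := hconn _ (τ ≫ p)
    let m : pullback f (τ ≫ p) ⟶ pullback p f :=
      pullback.lift (pullback.snd _ _ ≫ τ) (pullback.fst _ _) (by rw [Category.assoc, ← pullback.condition])
    have hsq : IsPullback m (pullback.snd f (τ ≫ p)) (pullback.fst p f) τ := by
      refine IsPullback.of_right ?_ (pullback.lift_fst _ _ _) (IsPullback.of_hasPullback p f).flip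
      rw [pullback.lift_snd]
      exact IsPullback.of_hasPullback f (τ ≫ p)
    obtain ⟨y, hy⟩ := q.surjective (pullback.fst p f z)
    have hφy : pullback.fst p f (φ y) = pullback.fst p f z := by
      rw [← Scheme.Hom.comp_apply, pullback.lift_fst, hy]
    obtain ⟨z', hz', -⟩ := Scheme.exists_preimage_of_isPullback hsq z default (GrothLib.FEt21.geomPt_default _ _).symm
    obtain ⟨y', hy', -⟩ := Scheme.exists_preimage_of_isPullback hsq (φ y) default
      (hφy.trans (GrothLib.FEt21.geomPt_default _ _).symm)
    exact ⟨Set.range φ ∪ Set.range m, Set.subset_univ _, Or.inl ⟨y₀, rfl⟩, Or.inr ⟨z', hz'⟩,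
      (isPreconnected_range φ.continuous).union (φ y) ⟨y, rfl⟩ ⟨y', hy'⟩ (isPreconnected_range m.continuous)⟩
  exact { toNonempty := ⟨φ y₀⟩ }

/-- A connected cover with a section over a geometric fibre comes from the base. -/
theorem mem_essImage
    (hfib : ∀ (K : Type u) [Field K] [IsAlgClosed K] (s : Spec (CommRingCat.of K) ⟶ S),
      ConnectedSpace ↥(pullback f s) ∧ IsReduced (pullback f s))
    (Y : FEt.Cat X) [ConnectedSpace Y.left] (Ω : Type u) [Field Ω] [IsAlgClosed Ω]
    (s : Spec (CommRingCat.of Ω) ⟶ S) (σ : pullback f s ⟶ Y.left) (hσ : σ ≫ Y.hom = pullback.fst f s) :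
    (FEt.restrict f).essImage Y := by
  haveI := GeomFibre21.geometricallyReduced_of_algClosed f fun K _ _ t => (hfib K t).2
  let b : Y.left ⟶ X := Y.hom
  haveI : IsFinite b := Y.prop.1
  haveI : Etale b := Y.prop.2
  have hσ' : σ ≫ b = pullback.fst f s := hσ
  let g := b ≫ f
  haveI : GeometricallyReduced g := geometricallyReduced_comp_etale f b
  haveI := SteinEtale21.finite_fromNormalization g
  haveI := SteinEtale21.etale_fromNormalization g
  let T : FEt.Cat S := MorphismProperty.Over.mk ⊤ g.fromNormalization
    (GrothLib.FEt21.prop_of g.fromNormalization)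
  haveI : Surjective g.toNormalization := ⟨GrothLib.Stein.surjective_toNormalization g⟩
  haveI : ConnectedSpace ↥(pullback g.fromNormalization f) :=
    connectedSpace_pullback_stein f (fun K _ _ t => (hfib K t).1) Y g.fromNormalization g.toNormalization
      g.toNormalization_fromNormalization
  let φ : Y ⟶ (FEt.restrict f).obj T := MorphismProperty.Over.homMk
    (pullback.lift g.toNormalization b g.toNormalization_fromNormalization) (pullback.lift_snd _ _ _)
  -- one fibre has a single point
  haveI := (hfib Ω s).1
  obtain ⟨x⟩ := (inferInstance : ConnectedSpace ↥(pullback f s)).toNonempty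
  obtain ⟨a, ha⟩ : ∃ a : Spec (CommRingCat.of Ω) ⟶ pullback f s, a ≫ pullback.snd f s = 𝟙 _ := by
    haveI : JacobsonSpace ↥(Spec (CommRingCat.of Ω)) := inferInstanceAs (JacobsonSpace (PrimeSpectrum Ω))
    haveI : JacobsonSpace ↥(pullback f s) := LocallyOfFiniteType.jacobsonSpace (pullback.snd f s)
    obtain ⟨z, -, hz⟩ := nonempty_inter_closedPoints (Z := (Set.univ : Set ↥(pullback f s))) ⟨x, trivial⟩
      isOpen_univ.isLocallyClosed
    exact ⟨pointOfClosedPoint (pullback.snd f s) z hz, pointOfClosedPoint_comp _ z hz⟩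
  let ξ : Spec (CommRingCat.of Ω) ⟶ X := a ≫ pullback.fst f s
  let t : Spec (CommRingCat.of Ω) ⟶ g.normalization := a ≫ σ ≫ g.toNormalization
  have hts : t ≫ g.fromNormalization = s := by
    simp only [t, Category.assoc, g.toNormalization_fromNormalization]
    show a ≫ σ ≫ b ≫ f = s
    rw [← Category.assoc σ, hσ', pullback.condition, ← Category.assoc, ha, Category.id_comp]
  have hσt : σ ≫ g.toNormalization = pullback.snd f s ≫ t := by
    refine Groth.Agent.S8190.result g.fromNormalization (pullback.snd f s ≫ s) _ _ ?_ ?_ Ω a ?_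
    · rw [Category.assoc, g.toNormalization_fromNormalization]
      show σ ≫ b ≫ f = _
      rw [← Category.assoc, hσ', pullback.condition]
    · rw [Category.assoc, hts]
    · rw [← Category.assoc a (pullback.snd f s), ha, Category.id_comp]
  haveI := GrothLib.Stein.geometricallyConnected_toNormalization g
  haveI : ConnectedSpace ↥(pullback g.toNormalization t) :=
    pullback_of_geometrically GeometricallyConnected.geometrically_connectedSpace _ t
  let m : pullback g.toNormalization t ⟶ pullback f s :=
    pullback.lift (pullback.fst _ _ ≫ b) (pullback.snd _ _) (by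
      have := congrArg (· ≫ g.fromNormalization) (pullback.condition (f := g.toNormalization) (g := t))
      simp only [Category.assoc, g.toNormalization_fromNormalization, hts] at this
      rw [Category.assoc]
      exact this)
  let z₀ : Spec (CommRingCat.of Ω) ⟶ pullback g.toNormalization t :=
    pullback.lift (a ≫ σ) (𝟙 _) (by simp [t])
  have hz₀ : z₀ ≫ m = a := by
    apply pullback.hom_ext
    · simp [z₀, m, hσ']
    · simp [z₀, m, ha]
  have hkey : pullback.fst g.toNormalization t = m ≫ σ :=
    Groth.Agent.S8190.result b (pullback.fst _ _ ≫ b) _ _ rfl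
      (by rw [Category.assoc, hσ', pullback.lift_fst]) Ω z₀
      (by rw [← Category.assoc z₀ m σ, hz₀, pullback.lift_fst])
  let s' : FEt.fiberObj ξ ((FEt.restrict f).obj T) := ⟨(a ≫ σ) ≫ φ.left, by
    rw [Category.assoc]
    refine (congrArg ((a ≫ σ) ≫ ·) (pullback.lift_snd _ _ _)).trans ?_
    rw [Category.assoc, hσ']⟩
  have hone : φ.left.finrank (s'.1 default) = 1 := by
    rw [GrothLib.FEt21.finrank_eq_card φ ξ s', Nat.card_eq_one_iff_unique]
    refine ⟨⟨fun v w => Subtype.ext (Subtype.ext ?_)⟩,
      ⟨⟨⟨a ≫ σ, (Category.assoc _ _ _).trans (congrArg (a ≫ ·) hσ)⟩, rfl⟩⟩⟩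
    have huniq : ∀ (v : {s : FEt.fiberObj ξ Y // s.1 ≫ φ.left = s'.1}), v.1.1 = a ≫ σ := by
      intro v
      have h1 : v.1.1 ≫ g.toNormalization = (𝟙 _) ≫ t := by
        have e := congrArg (· ≫ pullback.fst g.fromNormalization f) v.2
        have hφ : φ.left ≫ pullback.fst g.fromNormalization f = g.toNormalization := pullback.lift_fst _ _ _
        change (v.1.1 ≫ φ.left) ≫ _ = ((a ≫ σ) ≫ φ.left) ≫ _ at e
        rw [Category.id_comp]
        calc v.1.1 ≫ g.toNormalization = (v.1.1 ≫ φ.left) ≫ pullback.fst g.fromNormalization f := by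
              rw [Category.assoc]; exact congrArg (v.1.1 ≫ ·) hφ.symm
          _ = ((a ≫ σ) ≫ φ.left) ≫ pullback.fst g.fromNormalization f := e
          _ = t := by
              rw [Category.assoc]; exact (congrArg ((a ≫ σ) ≫ ·) hφ).trans (Category.assoc _ _ _)
      let z := pullback.lift v.1.1 (𝟙 _) h1
      have hz : z ≫ m = a := by
        apply pullback.hom_ext
        · simp only [z, m, Category.assoc, pullback.lift_fst, pullback.lift_fst_assoc]
          exact v.1.2
        · simp [z, m, ha]
      have : z ≫ pullback.fst g.toNormalization t = z ≫ m ≫ σ := by rw [hkey]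
      rw [← Category.assoc, hz, pullback.lift_fst] at this
      exact this
    exact (huniq v).trans (huniq w).symm
  haveI := (GrothLib.FEt21.prop_left φ).1
  haveI := (GrothLib.FEt21.prop_left φ).2
  haveI : PreconnectedSpace ↥((FEt.restrict f).obj T).left :=
    inferInstanceAs (PreconnectedSpace ↥(pullback g.fromNormalization f))
  haveI : IsIso φ := GrothLib.FEt21.isIso_of_finrank φ fun y =>
    ((Scheme.Hom.isLocallyConstant_finrank φ.left).apply_eq_of_preconnectedSpace y _).trans hone
  exact ⟨T, ⟨(asIso φ).symm⟩⟩

end Groth.Agent.SectDescent21
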